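import Cfsg.Agent.Lib.Core.Pump

/-! The trichotomies for components of involution centralizers and for standard subgroups,
for components of even order. -/

set_option autoImplicit false

namespace Cfsg.Lib
open Subgroup

variable {G : Type*} [Group G] [Finite G]

theorem le_pLayer_of_isComponent_centralizer {t : G} (ht : orderOf t = 2) {L : Subgroup G}
    (hLt : L ≤ centralizer ({t} : Set G))
    (hL : IsComponent (L.subgroupOf (centralizer ({t} : Set G)))) (h2 : 2 ∣ Nat.card L) :
    L ≤ pLayer 2 G := by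
  have hT : IsPGroup 2 (zpowers t) := IsPGroup.of_card (n := 1) (by rw [Nat.card_zpowers, ht]; rfl)
  rw [centralizer_singleton_eq_zpowers] at hLt hL
  refine le_trans ?_ (pLayerOf_centralizer_le_pLayer hT)
  have := (hL.isPComponent (p := 2) (by rwa [card_subgroupOf_of_le hLt])).le_pLayer
  exact fun x hx => ⟨⟨x, hLt hx⟩, this hx, rfl⟩

theorem pump_trichotomy (hL2 : pLayer 2 G = layer G) {t : G} (ht : orderOf t = 2)
    {L : Subgroup G} (hLt : L ≤ centralizer ({t} : Set G))
    (hL : IsComponent (L.subgroupOf (centralizer ({t} : Set G)))) (h2 : 2 ∣ Nat.card L) :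
    ∃ D : Subgroup G, IsComponent D ∧ (L = D ∨ (L < D ∧ D = ⁅D, zpowers t⁆) ∨
      (D.map (MulAut.conj t).toMonoidHom ≠ D ∧ L = (layer ↥((D ⊔ D.map (MulAut.conj t).toMonoidHom) ⊓
        centralizer ({t} : Set G))).map
        ((D ⊔ D.map (MulAut.conj t).toMonoidHom) ⊓ centralizer ({t} : Set G)).subtype)) := by
  have hLE := hL2 ▸ le_pLayer_of_isComponent_centralizer ht hLt hL h2
  have hq : IsQuasisimple L := ((isComponent_subgroupOf_iff hLt).1 hL).2
  obtain ⟨D, hD, hne⟩ := exists_isComponent_commutator_ne_bot hLE hq.commutator_self_ne_bot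
  refine ⟨D, hD, ?_⟩
  by_cases hn : t ∈ normalizer (D : Set G)
  · rcases (pump_of_mem_normalizer hLt hL hLE hD hne hn).eq_or_lt with h | h
    · exact Or.inl h
    refine Or.inr (Or.inl ⟨h, ?_⟩)
    have hz : zpowers t ≤ normalizer (D : Set G) := zpowers_le.2 hn
    rcases hD.isQuasisimple.eq_or_commutator_eq_bot (N := ⁅D, zpowers t⁆)
      (le_normalizer_iff_commutator_le_left.1 hz) (le_normalizer_commutator_left _ _) with e | e
    · exact e.symm
    · rw [commutator_comm D] at e
      have h1 : D ≤ centralizer ({t} : Set G) := by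
        rw [centralizer_singleton_eq_zpowers]
        exact le_centralizer_of_commutator_eq_bot'
          (commutator_eq_bot_of_perfect hD.commutator_self e)
      have := hL.eq_of_le ((isQuasisimple_subgroupOf_iff h1).2 hD.isQuasisimple) (comap_mono h.le)
      exact (h.not_ge (le_of_subgroupOf_le h1 this.ge)).elim
  · obtain ⟨-, π, -, -, -, h⟩ := pump_of_not_mem_normalizer ht hLt hL hLE hD hne hn
    refine Or.inr (Or.inr ⟨fun e => hn (mem_normalizer_iff_map_conj.2 e), le_antisymm ?_ ?_⟩)
    · have hle := h.ge.trans (commutator_le_self _)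
      exact le_layerOf hle (isComponent_subgroupOf_of_le hle inf_le_right hL)
    · rw [← commutator_layerOf_self, ← h]
      exact commutator_mono (map_subtype_le _) (map_subtype_le _)

theorem standard_trichotomy {A : Subgroup G} (hA : IsStandardSubgroup A)
    (hO : pPrimeCore 2 G = ⊥) {t : G} (ht : orderOf t = 2) (htA : t ∈ centralizer (A : Set G))
    (h2 : 2 ∣ Nat.card A) : A.Normal ∨ (∃ X : Subgroup G, IsSimpleGroup X ∧
      ¬ IsMulCommutative X ∧ Nonempty (X ≃* A) ∧
      (∀ a ∈ X, ∀ b ∈ X.map (MulAut.conj t).toMonoidHom, a * b = b * a) ∧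
      X ⊓ X.map (MulAut.conj t).toMonoidHom = ⊥ ∧
      X ⊔ X.map (MulAut.conj t).toMonoidHom = layer G ∧ centralizer (A : Set G) = zpowers t) ∨
      (A ≤ layer G ∧ IsSimpleGroup (layer G) ∧ ¬ IsMulCommutative (layer G)) := by
  by_cases hAc : IsComponent A
  · refine Or.inl (normal_of_top_le_normalizer fun g _ => mem_normalizer_iff_map_conj.2 ?_)
    by_contra hne
    exact hA.2.2.1 g hne (hAc.commutator_eq_bot_of_ne (hAc.map_conj g) (Ne.symm hne))
  have hAt := le_centralizer_singleton_of_mem htA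
  have hL := hA.isComponent ht htA
  have hAE : A ≤ layer G := pLayer_eq_layer_of_eq_bot hO ▸
    le_pLayer_of_isComponent_centralizer ht hAt hL h2
  obtain ⟨D, hD, hne⟩ := exists_isComponent_commutator_ne_bot hAE hA.1.commutator_self_ne_bot
  -- a subnormal subgroup centralizing a subnormal overgroup `Y` of `A` is trivial
  have key : ∀ {Y Z : Subgroup G}, Y.IsSubnormal → A ≤ Y → Z.IsSubnormal →
      Z ≤ centralizer (Y : Set G) → Z = ⊥ := fun {Y Z} hY hAY hZ hZY => by
    refine eq_bot_iff.2 (hO ▸ le_pPrimeCore_of_isSubnormal hZ ?_)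
    by_contra hc
    obtain ⟨u, hu⟩ := exists_prime_orderOf_dvd_card' (G := Z) 2 (by
      rwa [Nat.coprime_comm, Nat.prime_two.coprime_iff_not_dvd, not_not] at hc)
    have hu' : orderOf (u : G) = 2 := by rw [Subgroup.orderOf_coe, hu]
    exact hAc ⟨isSubnormal_of_le_normalizer hAY ((le_centralizer_singleton_of_mem (hZY u.2)).trans
      (hA.centralizer_le_normalizer hu' (centralizer_antitone hAY (hZY u.2)))) hY, hA.1⟩
  have hZs : (D ⊓ centralizer (D : Set G)).IsSubnormal := isSubnormal_of_le_normalizer inf_le_left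
    (le_normalizer_inf le_normalizer (le_normalizer_centralizer le_normalizer)) hD.isSubnormal
  have hsimple : D ⊓ centralizer (D : Set G) = ⊥ → IsSimpleGroup D := fun h =>
    hD.isQuasisimple.isSimpleGroup_of_center_eq_bot (by
      rwa [← map_subtype_center, map_eq_bot_iff_of_injective _ D.subtype_injective] at h)
  by_cases hn : t ∈ normalizer (D : Set G)
  · have hAD := pump_of_mem_normalizer hAt hL hAE hD hne hn
    have hE : layer G = D := le_antisymm (sSup_le fun K hK => by
      rcases IsComponent.eq_or_commutator_eq_bot hK hD with h | h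
      · exact h.le
      · exact (IsComponent.ne_bot hK (key hD.isSubnormal hAD (IsComponent.isSubnormal hK)
          (le_centralizer_of_commutator_eq_bot h))).elim) hD.le_layer
    refine Or.inr (Or.inr ⟨hAE, ?_⟩)
    rw [hE]
    exact ⟨hsimple (key hD.isSubnormal hAD hZs inf_le_right), hD.isQuasisimple.not_isMulCommutative⟩
  obtain ⟨hc, π, h1, h2, h3, h4⟩ := pump_of_not_mem_normalizer ht hAt hL hAE hD hne hn
  have hD' := hD.map_conj t
  set D' := D.map (MulAut.conj t).toMonoidHom with hD'def
  have hYs : (D ⊔ D').IsSubnormal := by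
    rw [← sSup_pair]
    exact isSubnormal_sSup_of_isComponent fun K hK => by rcases hK with rfl | rfl <;> assumption
  have hAY : A ≤ D ⊔ D' := h4.ge.trans ((commutator_le_self _).trans inf_le_left)
  have hcomp : ∀ K, IsComponent K → K = D ∨ K = D' := fun K hK => by
    by_contra hh
    push Not at hh
    exact hK.ne_bot (key hYs hAY hK.isSubnormal (le_centralizer_of_commutator_eq_bot
      (commutator_sup_eq_bot_right (hK.commutator_eq_bot_of_ne hD hh.1)
        (hK.commutator_eq_bot_of_ne hD' hh.2))))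
  have hE : D ⊔ D' = layer G := le_antisymm (sup_le hD.le_layer hD'.le_layer)
    (sSup_le fun K hK => by
      rcases hcomp K hK with rfl | rfl
      exacts [le_sup_left, le_sup_right])
  have hZ : D ⊓ centralizer (D : Set G) = ⊥ := key hYs hAY hZs (by
    rw [centralizer_sup]
    exact le_inf inf_le_right (inf_le_left.trans (le_centralizer_of_commutator_eq_bot hc)))
  have hDD' : D ⊓ D' = ⊥ :=
    eq_bot_iff.2 (hZ ▸ inf_le_inf_left D (le_centralizer_of_commutator_eq_bot' hc))
  have hcen : center D = ⊥ := by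
    rwa [← map_subtype_center, map_eq_bot_iff_of_injective _ D.subtype_injective] at hZ
  have hinj : Function.Injective π := (MonoidHom.ker_eq_bot_iff π).1 (eq_bot_iff.2 (hcen ▸ h2))
  have htt : t * t = 1 := by rw [← pow_two, ← ht, pow_orderOf_eq_one]
  -- elements of `C(A)` normalizing `D` are trivial
  have hK : ∀ k ∈ centralizer (A : Set G), k ∈ normalizer (D : Set G) → k = 1 := by
    intro k hk hkD
    have hkD' : k ∈ normalizer (D' : Set G) := mem_normalizer_iff_map_conj.2 (by
      refine (hcomp _ (hD'.map_conj k)).resolve_left fun e => hn ?_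
      rw [← mem_normalizer_iff_map_conj.1 hkD] at e
      exact mem_normalizer_iff_map_conj.2
        (Subgroup.map_injective (MulAut.conj k).injective e))
    have h5 : ∀ d ∈ D, k * d * k⁻¹ = d ∧ k * (t * d * t⁻¹) * k⁻¹ = t * d * t⁻¹ := fun d hd => by
      have hm : t * d * t⁻¹ ∈ D' := ⟨d, hd, rfl⟩
      have e : d * (t * d * t⁻¹) * k = k * (d * (t * d * t⁻¹)) :=
        hk _ (h3 ▸ ⟨⟨d, hd⟩, h1 _⟩ : _ ∈ A)
      have e1 : d⁻¹ * (k * d * k⁻¹) = (t * d * t⁻¹) * (k * (t * d * t⁻¹) * k⁻¹)⁻¹ := by
        calc _ = d⁻¹ * (k * (d * (t * d * t⁻¹))) * k⁻¹ * (k * (t * d * t⁻¹) * k⁻¹)⁻¹ := by group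
          _ = _ := by rw [← e]; group
      have h6 : d⁻¹ * (k * d * k⁻¹) ∈ D ⊓ D' :=
        ⟨D.mul_mem (D.inv_mem hd) (conj_mem_of_mem_normalizer hkD hd),
          e1 ▸ D'.mul_mem hm (D'.inv_mem (conj_mem_of_mem_normalizer hkD' hm))⟩
      rw [hDD', mem_bot] at h6
      rw [h6, eq_comm, mul_inv_eq_one] at e1
      exact ⟨(inv_mul_eq_one.1 h6).symm, e1.symm⟩
    have h7 : k ∈ centralizer ((layer G : Subgroup G) : Set G) := by
      rw [← hE, centralizer_sup]
      refine ⟨fun d hd => (mul_inv_eq_iff_eq_mul.1 (h5 d hd).1).symm, ?_⟩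
      rintro _ ⟨d, hd, rfl⟩
      exact (mul_inv_eq_iff_eq_mul.1 (h5 d hd).2).symm
    rwa [key (hE ▸ hYs) hAE (Normal.isSubnormal inferInstance) le_rfl, mem_bot] at h7
  refine Or.inr (Or.inl ⟨D, hsimple hZ, hD.isQuasisimple.not_isMulCommutative,
    ⟨h3 ▸ MonoidHom.ofInjective hinj⟩, commutator_eq_bot_iff_forall.1 hc, hDD', hE,
    le_antisymm (fun k hk => ?_) (zpowers_le.2 htA)⟩)
  rcases hcomp _ (hD.map_conj k) with e | e
  · rw [hK k hk (mem_normalizer_iff_map_conj.2 e)]
    exact one_mem _
  · have := hK (t⁻¹ * k) (mul_mem (inv_mem htA) hk) (mem_normalizer_iff_map_conj.2 (by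
      rw [map_conj_mul, e, hD'def, map_conj_inv_map_conj]))
    rw [← inv_mul_eq_one.1 this]
    exact mem_zpowers t

end Cfsg.Lib
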